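import Groth.Agent.Lib.Chow13.Main
import Groth.Agent.Lib.CubeField.DivSection
import Groth.Prelude.Def_MoreMor

/-!
Factorial Noetherian schemes with affine diagonal have an ample family of invertible modules.
-/

universe u

open CategoryTheory Limits AlgebraicGeometry TopologicalSpace

set_option autoImplicit false
set_option backward.isDefEq.respectTransparency false

namespace Groth.Agent.AmpleFam11

theorem hasAmpleFamily_of_factorial (X : Scheme.{u}) [IsNoetherian X]
    (hΔ : ∀ V W : X.Opens, IsAffineOpen V → IsAffineOpen W → IsAffineOpen (V ⊓ W))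
    (hufd : ∀ x : X, IsDomain (X.presheaf.stalk x) ∧ UniqueFactorizationMonoid (X.presheaf.stalk x)) :
    MoreMor.HasAmpleFamily X := by
  refine ⟨inferInstance, fun x => ?_⟩
  obtain ⟨U, hU, hxU, hgU⟩ :=
    Chow13.exists_dense_affineOpen (X := X) NoetherianSpace.finite_irreducibleComponents x
  have hdense : Dense (U : Set X) := fun y => by
    let g := genericPoints.ofComponent
      (⟨irreducibleComponent y, irreducibleComponent_mem_irreducibleComponents y⟩ : irreducibleComponents (X : Type u))
    have hs : g.1 ⤳ y := (genericPoints.isGenericPoint_ofComponent _).specializes mem_irreducibleComponent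
    exact closure_mono (Set.singleton_subset_iff.2 (hgU g.2)) hs.mem_closure
  obtain ⟨I, hI, hsupp⟩ := SecDiv.exists_effCartier_compl hΔ U hU hdense fun y _ => hufd y
  obtain ⟨N, hN, -, s, hs⟩ := CubeField.exists_inverse_section_of_effCartier hI
  have hgl : CohB1.genLocus N s = U := Opens.ext (by rw [hs, hsupp, compl_compl])
  refine ⟨N, 1, s ≫ (M2.tensorPowOne N).inv, hN, le_rfl, ?_, ?_⟩
  · rw [← Iso.symm_hom, Amp.genLocus_comp_iso, hgl]; exact hxU
  · rw [← Iso.symm_hom, Amp.genLocus_comp_iso, hgl]; exact hU

/-- Regular Noetherian schemes with affine diagonal are divisorial. -/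
theorem hasAmpleFamily_of_regular (X : Scheme.{u}) [CompactSpace X] [IsLocallyNoetherian X]
    (hΔ : ∀ V W : X.Opens, IsAffineOpen V → IsAffineOpen W → IsAffineOpen (V ⊓ W))
    (hreg : ∀ x : X, IsRegularLocalRing (X.presheaf.stalk x)) : MoreMor.HasAmpleFamily X := by
  haveI : IsNoetherian X := {}
  refine hasAmpleFamily_of_factorial X hΔ fun x => ?_
  haveI := hreg x
  exact ⟨RegLoc.isDomain _, RegLoc.ufd_of_isRegularLocalRing _⟩

end Groth.Agent.AmpleFam11
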